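import Groth.Agent.EulerChar.Basic
import Mathlib.FieldTheory.Perfect
import Mathlib.LinearAlgebra.Dimension.Finrank

/-!
Injective Frobenius-semilinear maps; cohomology of the cokernel of a split Frobenius.
-/

set_option autoImplicit false

open CategoryTheory CategoryTheory.Limits AlgebraicGeometry Opposite

universe u

noncomputable section

namespace Groth.Agent.FrobSplit

theorem linearIndependent_of_semilinear {p : ℕ} {k : Type u} [Field k] [ExpChar k p] [PerfectRing k p]
    {V W : Type u} [AddCommGroup V] [Module k V] [AddCommGroup W] [Module k W]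
    (T : V →+ W) (hT : Function.Injective T) (hsl : ∀ (c : k) x, T (c • x) = c ^ p • T x)
    {ι : Type*} {v : ι → V} (hv : LinearIndependent k v) : LinearIndependent k (fun i => T (v i)) := by
  refine linearIndependent_iff'.2 fun s g hg i hi => ?_
  choose d hd using fun j => surjective_frobenius k p (g j)
  have h0 : T (∑ j ∈ s, d j • v j) = 0 := by
    rw [map_sum, ← hg]
    refine Finset.sum_congr rfl fun j _ => ?_
    rw [hsl, ← hd j, frobenius_def]
  have h1 := linearIndependent_iff'.1 hv s d (hT (h0.trans (map_zero T).symm)) i hi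
  rw [← hd i, h1, map_zero]

theorem finrank_le_of_semilinear {p : ℕ} {k : Type u} [Field k] [ExpChar k p] [PerfectRing k p]
    {V W : Type u} [AddCommGroup V] [Module k V] [AddCommGroup W] [Module k W] [Module.Finite k W]
    (T : V →+ W) (hT : Function.Injective T) (hsl : ∀ (c : k) x, T (c • x) = c ^ p • T x)
    [Module.Finite k V] : Module.finrank k V ≤ Module.finrank k W := by
  have := (linearIndependent_of_semilinear T hT hsl (Module.finBasis k V).linearIndependent).fintype_card_le_finrank
  simpa using this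

theorem bijective_of_semilinear {p : ℕ} {k : Type u} [Field k] [ExpChar k p] [PerfectRing k p]
    {V : Type u} [AddCommGroup V] [Module k V] [Module.Finite k V]
    (T : V →+ V) (hT : Function.Injective T) (hsl : ∀ (c : k) x, T (c • x) = c ^ p • T x) :
    Function.Bijective T := by
  refine ⟨hT, fun w => ?_⟩
  have hli := linearIndependent_of_semilinear T hT hsl (Module.finBasis k V).linearIndependent
  have htop := hli.span_eq_top_of_card_eq_finrank' (Fintype.card_fin _)
  obtain ⟨c, hc⟩ := (Submodule.mem_span_range_iff_exists_fun k).1 (htop.ge (Submodule.mem_top : w ∈ ⊤))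
  choose d hd using fun j => surjective_frobenius k p (c j)
  refine ⟨∑ j, d j • Module.finBasis k V j, ?_⟩
  rw [map_sum, ← hc]
  refine Finset.sum_congr rfl fun j _ => ?_
  rw [hsl, ← hd j, frobenius_def]

variable {X : Scheme.{u}}

theorem smulAb_comp {p : ℕ} {M N : X.Modules} (φ : Coh.toAb M ⟶ Coh.toAb N)
    (hφ : ∀ (U : X.Opens) (r : X.ringCatSheaf.obj.obj (op U)) (m : M.val.obj (op U)),
      (φ.hom.app (op U)).hom (r • m) = (r ^ p • (show N.val.obj (op U) from (φ.hom.app (op U)).hom m)))
    (r : Coh.Γtop X) : Coh.smulAb M r ≫ φ = φ ≫ Coh.smulAb N (r ^ p) := by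
  refine Sheaf.hom_ext (NatTrans.ext (funext fun U => ?_))
  refine ConcreteCategory.hom_ext _ _ fun m => ?_
  show (φ.hom.app U).hom ((Coh.smulAb M r).hom.app U m) =
    (Coh.smulAb N (r ^ p)).hom.app U ((φ.hom.app U).hom m)
  rw [Coh.smulAb_app, Coh.smulAb_app, map_pow]
  exact hφ U.unop _ m

theorem hmap_semilinear {p : ℕ} {A : Type u} [CommRing A] [X.Over (Spec (CommRingCat.of A))]
    {M N : X.Modules} (φ : Coh.toAb M ⟶ Coh.toAb N) (hφ : ∀ r : Coh.Γtop X,
      Coh.smulAb M r ≫ φ = φ ≫ Coh.smulAb N (r ^ p)) (i : ℕ) (c : A) (x : Coh.HH X M i) :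
    (Sheaf.H.map φ i (c • x) : Coh.HH X N i) = c ^ p • (Sheaf.H.map φ i x : Coh.HH X N i) := by
  let g := Coh.toGlobal (X ↘ Spec (CommRingCat.of A))
  show Sheaf.H.map φ i (Sheaf.H.map (Coh.smulAb M (g c)) i x) =
    Sheaf.H.map (Coh.smulAb N (g (c ^ p))) i (Sheaf.H.map φ i x)
  rw [← Sheaf.H.map_comp_apply, ← Sheaf.H.map_comp_apply, hφ, map_pow]

theorem subsingleton_cokernel {F : Sheaf (Opens.grothendieckTopology X) AddCommGrpCat.{u}}
    (φ s : F ⟶ F) (hs : φ ≫ s = 𝟙 F) (i : ℕ) (hsur : Function.Surjective (Sheaf.H.map φ i)) :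
    Subsingleton (Sheaf.H (cokernel φ) i) := by
  let ι : cokernel φ ⟶ F := cokernel.desc φ (𝟙 F - s ≫ φ) (by
    rw [Preadditive.comp_sub, Category.comp_id, ← Category.assoc, hs, Category.id_comp, sub_self])
  have hι : ι ≫ cokernel.π φ = 𝟙 _ := by
    refine coequalizer.hom_ext ?_
    rw [← Category.assoc, cokernel.π_desc, Preadditive.sub_comp, Category.assoc, cokernel.condition,
      comp_zero, sub_zero, Category.id_comp, Category.comp_id]
  refine subsingleton_of_forall_eq 0 fun x => ?_
  obtain ⟨y, hy⟩ := hsur (Sheaf.H.map ι i x)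
  have h0 : Sheaf.H.map (φ ≫ cokernel.π φ) i y = 0 := by
    rw [cokernel.condition]
    exact congr($((Sheaf.functorH _ i).map_zero F (cokernel φ)) y)
  rw [← Sheaf.H.map_id_apply (x := x), ← hι, Sheaf.H.map_comp_apply, ← hy, ← Sheaf.H.map_comp_apply, h0]

end Groth.Agent.FrobSplit
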